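import Groth.Agent.S1528
import Groth.Agent.Lib.IntTheory.Additive
import Groth.Agent.H97.CurveEuler
import Groth.Agent.Lib.ModelFibre.TorsGen
import Groth.Agent.Lib.TopDim.Basic

/-! The top-degree part of the Euler characteristic of twists. -/

set_option autoImplicit false
set_option linter.style.haveILetI false
universe u
open CategoryTheory CategoryTheory.Limits AlgebraicGeometry TopologicalSpace

namespace Groth.Agent.Lib.EulerLead96

open Groth.Agent.Lib Groth.Agent.Lib.Snapper Groth.Agent.Lib.TensorMod.Basic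

variable {X : Scheme.{u}}

theorem isCoh_tensorPows [IsLocallyNoetherian X] {F : X.Modules} (hF : Coh.IsCoh F) :
    ∀ (r : ℕ) (L : Fin r → X.Modules), (∀ i, PicF.IsInvertible (L i)) → ∀ n : Fin r → ℕ,
      Coh.IsCoh (Curv2.tensorPows F r L n)
  | 0, _, _, _ => hF
  | r + 1, L, hL, n => by
    obtain ⟨h1, h2⟩ := isCoh_tensorPows hF r (fun i => L i.castSucc) (fun i => hL _) (fun i => n i.castSucc)
    obtain ⟨h3, h4⟩ := Ample.GG.isCoh_of_isInvertible
      (TensorMod.Invertible.isInvertible_tensorPow (hL (Fin.last r)) (n (Fin.last r)))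
    exact ⟨TensorMod.TensorQCoh.isQCoh_tensorMod _ _, TensorMod.TensorQCoh.isFiniteType_tensorMod _ _⟩

/-- Twists of a direct image along a morphism: the iterated projection formula. -/
theorem exists_tensorPows_push {Z : Scheme.{u}} (i : Z ⟶ X) (M : Z.Modules) :
    ∀ (r : ℕ) (L : Fin r → X.Modules), (∀ j, PicF.IsInvertible (L j)) → ∀ n : Fin r → ℕ,
      Nonempty (Curv2.tensorPows ((Coh.push i).obj M) r L n ≅
        (Coh.push i).obj (Curv2.tensorPows M r (fun j => (Scheme.Modules.pullback i).obj (L j)) n))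
  | 0, _, _, _ => ⟨Iso.refl _⟩
  | r + 1, L, hL, n => by
    obtain ⟨e⟩ := exists_tensorPows_push i M r (fun j => L j.castSucc) (fun j => hL _) (fun j => n j.castSucc)
    obtain ⟨e'⟩ := ModelFibre.TorsGen.nonempty_pullback_tensorPow i (L (Fin.last r)) (n (Fin.last r))
    have hE := Modules.DualBasis.hasDBases_of_isFinLocFree (TensorMod.LocFree.of_rank
      (TensorMod.LocFree.of_isInvertible
        (TensorMod.Invertible.isInvertible_tensorPow (hL (Fin.last r)) (n (Fin.last r)))))
    exact ⟨tensorIso e (Iso.refl _) ≪≫ comm _ _ ≪≫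
      (Modules.ProjFormula.projIso i (E := CohB1.tensorPow (L (Fin.last r)) (n (Fin.last r))) hE).app _ ≪≫
      (Coh.push i).mapIso (tensorIso e' (Iso.refl _) ≪≫ comm _ _)⟩

variable (k : Type u) [Field k] [X.Over (Spec (CommRingCat.of k))] [IsProper (X ↘ (Spec (CommRingCat.of k)))]

/-- `χ` of twists is additive. -/
theorem isAdd_euler_twist {r : ℕ} (L : Fin r → X.Modules) (hL : ∀ i, PicF.IsInvertible (L i)) (n : Fin r → ℕ) :
    IntTheory.Additive.IsAdd (fun F : X.Modules => Curv2.euler k X (Curv2.tensorPows F r L n)) := by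
  haveI := Curves.GlobalSections.isNoetherian_of_proper k X
  obtain ⟨e, he⟩ := DimBound.exists_dim_bound k X
  have hM := Poly.multiTwist_invertible (L := L) hL n
  have key : ∀ F : X.Modules, Curv2.euler k X (Curv2.tensorPows F r L n) =
      FGA.eulerCharLE k X (CohB1.tensorMod (FGA.multiTwist L n) F) e := fun F => by
    obtain ⟨i⟩ := Poly.exists_tensorPowsIso F r L n
    rw [Chi.euler_eq_eulerCharLE he, Chi.eulerCharLE_of_iso i]
  refine ⟨fun {F G} i => ?_, fun {F} hF => ?_, fun {S} hS h₁ h₂ h₃ => ?_⟩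
  · simp only [key]
    exact Chi.eulerCharLE_of_iso (tensorIso (Iso.refl _) i) e
  · simp only [key]
    exact Chi.eulerCharLE_isZero (Functor.map_isZero (Modules.DualAdj.tensorL (FGA.multiTwist L n)) hF) e
  · simp only [key]
    have h := Chi.eulerCharLE_add (d := e) (S := Twist.twistSeq (FGA.multiTwist L n) S) (Finite.cohFinite k X) he
      (Twist.twistSeq_shortExact hM hS) (Twist.isCoh_twist hM h₁) (Twist.isCoh_twist hM h₂) (Twist.isCoh_twist hM h₃)
    exact h

open Classical in
/-- `χ` of twists agrees with the sum over the `d`-dimensional points up to a polynomial of degree `< d`. -/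
theorem exists_lower [IsNoetherian X] {r : ℕ} (L : Fin r → X.Modules) (hL : ∀ i, PicF.IsInvertible (L i))
    (d : ℕ) (T : Closeds X) (hd : topologicalKrullDim (T : Set X) ≤ d)
    (F : X.Modules) (hF : Devissage.Basic.CohIn (T : Set X) F) :
    ∃ P : MvPolynomial (Fin r) ℚ, (∀ m ∈ P.support, (m.sum fun _ e => e) < d) ∧ ∀ n : Fin r → ℕ,
      (Curv2.euler k X (Curv2.tensorPows F r L n) : ℚ) -
        ∑ y ∈ (IntTheory.Additive.finite_topPts T.isClosed hd).toFinset,
          ((Module.length (X.presheaf.stalk y) (F.presheaf.stalk y)).toNat : ℚ) *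
            (Curv2.euler k X (Curv2.tensorPows (Cyc.closureStructureSheaf y) r L n) : ℚ) =
        MvPolynomial.eval (fun i => (n i : ℚ)) P := by
  have hmax : ∀ y ∈ IntTheory.Additive.topPts (T : Set X) d, ∀ z ∈ (T : Set X), z ⤳ y → z = y :=
    fun y hy => IntTheory.Additive.maximal_of_topPts T.isClosed hd hy
  set S := (IntTheory.Additive.finite_topPts T.isClosed hd).toFinset with hS
  have hmem : ∀ y, y ∈ S ↔ y ∈ IntTheory.Additive.topPts (T : Set X) d := fun y => by
    rw [hS, Set.Finite.mem_toFinset]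
  have hlen : ∀ H : X.Modules, Devissage.Basic.CohIn (T : Set X) H → ∀ y ∈ S,
      Module.length (X.presheaf.stalk y) (H.presheaf.stalk y) ≠ ⊤ := fun H hH y hy =>
    Cyc.SheafLen.length_ne_top hH.1 y fun z hzy hz =>
      hmax y ((hmem y).1 hy) z (hH.2 (not_subsingleton_iff_nontrivial.mpr hz)) hzy
  let Q : X.Modules → Prop := fun H => ∃ P : MvPolynomial (Fin r) ℚ,
    (∀ m ∈ P.support, (m.sum fun _ e => e) < d) ∧ ∀ n : Fin r → ℕ,
      (Curv2.euler k X (Curv2.tensorPows H r L n) : ℚ) -
        ∑ y ∈ S, ((Module.length (X.presheaf.stalk y) (H.presheaf.stalk y)).toNat : ℚ) *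
            (Curv2.euler k X (Curv2.tensorPows (Cyc.closureStructureSheaf y) r L n) : ℚ) =
        MvPolynomial.eval (fun i => (n i : ℚ)) P
  have hdeg : ∀ P P' : MvPolynomial (Fin r) ℚ, (∀ m ∈ P.support, (m.sum fun _ e => e) < d) →
      (∀ m ∈ P'.support, (m.sum fun _ e => e) < d) →
      (∀ m ∈ (P + P').support, (m.sum fun _ e => e) < d) ∧ (∀ m ∈ (P - P').support, (m.sum fun _ e => e) < d) := by
    intro P P' h h'
    refine ⟨fun m hm => ?_, fun m hm => ?_⟩
    · rcases Finset.mem_union.1 (MvPolynomial.support_add hm) with h1 | h1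
      exacts [h m h1, h' m h1]
    · rcases Finset.mem_union.1 (MvPolynomial.support_sub (Fin r) P P' hm) with h1 | h1
      exacts [h m h1, h' m h1]
  refine ProperFin.Devissage.devissage Q T ⟨fun H hH => ⟨0, by simp, fun n => ?_⟩, fun W hW h₁ h₂ h₃ => ?_⟩
    (fun z hz => ?_) F hF
  · rw [(isAdd_euler_twist k L hL n).zero hH, Finset.sum_eq_zero fun y _ => ?_]
    · simp
    have : Subsingleton (H.presheaf.stalk y) := Modules.Support.not_mem_support_iff.mp
      (by rw [Modules.Support.support_eq_empty_iff.mpr hH]; simp)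
    simp [Module.length_eq_zero]
  · have e : ∀ n : Fin r → ℕ,
        (Curv2.euler k X (Curv2.tensorPows W.X₂ r L n) : ℚ) -
          ∑ y ∈ S, ((Module.length (X.presheaf.stalk y) (W.X₂.presheaf.stalk y)).toNat : ℚ) *
            (Curv2.euler k X (Curv2.tensorPows (Cyc.closureStructureSheaf y) r L n) : ℚ) =
        ((Curv2.euler k X (Curv2.tensorPows W.X₁ r L n) : ℚ) -
          ∑ y ∈ S, ((Module.length (X.presheaf.stalk y) (W.X₁.presheaf.stalk y)).toNat : ℚ) *
            (Curv2.euler k X (Curv2.tensorPows (Cyc.closureStructureSheaf y) r L n) : ℚ)) +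
        ((Curv2.euler k X (Curv2.tensorPows W.X₃ r L n) : ℚ) -
          ∑ y ∈ S, ((Module.length (X.presheaf.stalk y) (W.X₃.presheaf.stalk y)).toNat : ℚ) *
            (Curv2.euler k X (Curv2.tensorPows (Cyc.closureStructureSheaf y) r L n) : ℚ)) := by
      intro n
      have h := (isAdd_euler_twist k L hL n).add hW h₁.1 h₂.1 h₃.1
      rw [h, sub_add_sub_comm, ← Finset.sum_add_distrib]
      push_cast
      congr 1
      refine Finset.sum_congr rfl fun y hy => ?_
      rw [Cyc.SheafLen.length_additive W hW y, ENat.toNat_add (hlen _ h₁ y hy) (hlen _ h₃ y hy)]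
      push_cast
      ring
    refine ⟨fun ⟨P, hP, hPe⟩ ⟨P', hP', hPe'⟩ => ⟨P + P', (hdeg P P' hP hP').1, fun n => ?_⟩,
      fun ⟨P, hP, hPe⟩ ⟨P', hP', hPe'⟩ => ⟨P - P', (hdeg P P' hP hP').2, fun n => ?_⟩,
      fun ⟨P, hP, hPe⟩ ⟨P', hP', hPe'⟩ => ⟨P' - P, (hdeg P' P hP' hP).2, fun n => ?_⟩⟩
    all_goals first
      | (rw [e n, hPe n, hPe' n, map_add])
      | (rw [map_sub]; linarith [e n, hPe n, hPe' n])
  · refine ⟨Cyc.closureStructureSheaf z, Devissage.Closure.cohIn_closureStructureSheaf z,
      Devissage.Closure.length_closureStructureSheaf z, ?_⟩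
    have hne : ∀ y ∈ S, y ≠ z → Subsingleton ((Cyc.closureStructureSheaf z).presheaf.stalk y) :=
      fun y hy hyz => Modules.Support.not_mem_support_iff.mp fun h => hyz
        (hmax y ((hmem y).1 hy) z hz
          (specializes_iff_mem_closure.mpr (Devissage.Closure.support_closureStructureSheaf z h))).symm
    by_cases hzS : z ∈ S
    · refine ⟨0, by simp, fun n => ?_⟩
      rw [Finset.sum_eq_single_of_mem z hzS fun y hy hyz => by
        have := hne y hy hyz
        simp [Module.length_eq_zero], Devissage.Closure.length_closureStructureSheaf z]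
      simp
    · have hlt : topologicalKrullDim (closure {z} : Set X) < (d : WithBot ℕ∞) :=
        lt_of_le_of_ne ((Devissage.Dim.dim_closure_le T.isClosed hz).trans hd)
          fun e => hzS ((hmem z).2 ⟨hz, e⟩)
      have hd0 : 0 < d := by
        rcases Nat.eq_zero_or_pos d with rfl | h
        · have h0 : (0 : WithBot ℕ∞) ≤ topologicalKrullDim (closure {z} : Set X) := by
            haveI : Nonempty (closure {z} : Set X) := ⟨⟨z, subset_closure rfl⟩⟩
            exact TopDim.Basic.topologicalKrullDim_nonneg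
          exact absurd (lt_of_le_of_lt h0 hlt) (by simp)
        · exact h
      obtain ⟨m, rfl⟩ : ∃ m, d = m + 1 := ⟨d - 1, by omega⟩
      obtain ⟨P, hP, hPe⟩ := Groth.Agent.S1528.result k X (Cyc.closureStructureSheaf z)
        (Devissage.Closure.isCoh_closureStructureSheaf z) m
        ((Devissage.Dim.dim_mono (Devissage.Closure.support_closureStructureSheaf z)).trans
          (Vanish.le_of_lt_succ hlt)) r L hL
      refine ⟨P, fun j hj => Nat.lt_succ_of_le ((MvPolynomial.le_totalDegree hj).trans hP), fun n => ?_⟩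
      rw [Finset.sum_eq_zero fun y hy => ?_, sub_zero, hPe n]
      have := hne y hy fun e => hzS (e ▸ hy)
      simp [Module.length_eq_zero]

end Groth.Agent.Lib.EulerLead96
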